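import Mathlib
import Cfsg.Agent.M22Nse38.Arith

/-!
# A group of order 10200960 with the counts of M₂₃: the orders and their counts
-/

set_option autoImplicit false
set_option linter.unusedSectionVars false

namespace Cfsg.Agent.M23Nse26

open Finset
open Cfsg.Agent.M22Nse38 (sn frob card_pow_eq_one sn_pos sn_pos_of_dvd sn_mul)

/-- The values. -/
abbrev vals : Finset ℕ :=
  {1, 3795, 56672, 318780, 680064, 850080, 1457280, 1275120, 1854720, 1360128, 887040}

/-- An element of order `q` gives `q - 1` of them. -/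
theorem pred_le_sn {H : Type*} [Group H] [Finite H] {q : ℕ} (hq : q.Prime) (h : 0 < sn H q) :
    q - 1 ≤ sn H q := by
  obtain ⟨w, hw⟩ := sn_pos.1 h
  have e : ∀ i : Fin (q - 1), orderOf (w ^ (i.1 + 1)) = q := fun i => by
    rw [Nat.Coprime.orderOf_pow, hw]
    rw [hw]
    exact (hq.coprime_iff_not_dvd.2 fun hd => by
      have := Nat.le_of_dvd (by omega) hd
      have := i.2
      omega)
  calc q - 1 = Nat.card (Fin (q - 1)) := (Nat.card_fin _).symm
    _ ≤ _ := Nat.card_le_card_of_injective (fun i => (⟨w ^ (i.1 + 1), e i⟩ : {g : H // orderOf g = q}))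
      fun i j hij => by
        have h1 : w ^ (i.1 + 1) = w ^ (j.1 + 1) := congrArg Subtype.val hij
        have hi : i.1 + 1 < orderOf w := by rw [hw]; have := i.2; omega
        have hj : j.1 + 1 < orderOf w := by rw [hw]; have := j.2; omega
        have := pow_injOn_Iio_orderOf (x := w) (by simpa using hi) (by simpa using hj) h1
        exact Fin.ext (by omega)

/-- The number of elements of order `n > 2` is even. -/
theorem even_sn {H : Type*} [Group H] [Finite H] {n : ℕ} (hn : 2 < n) : 2 ∣ sn H n := by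
  classical
  have := Fintype.ofFinite H
  rw [sn, Nat.card_eq_fintype_card, Fintype.card_subtype]
  rw [← CharP.cast_eq_zero_iff (ZMod 2) 2, card_eq_sum_ones, Nat.cast_sum]
  refine sum_involution (fun g _ => g⁻¹) (fun g _ => by decide) (fun g hg _ he => ?_)
    (fun g hg => by simpa using hg) (fun g _ => inv_inv g)
  have h1 : g ^ 2 = 1 := by
    rw [sq]
    nth_rw 2 [← he]
    exact mul_inv_cancel g
  have h2 := Nat.le_of_dvd (by norm_num) (orderOf_dvd_of_pow_eq_one h1)
  simp only [mem_filter, mem_univ, true_and] at hg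
  omega

/-- The possible centralisers of elements of order 5, 11, 23. -/
theorem cent_arith : ∀ p c k : ℕ, (p, c) ∈ ([(5, 15), (11, 11), (23, 23)] : List (ℕ × ℕ)) →
    (p, k) ∈ ([(5, 60), (7, 42), (11, 55), (23, 253)] : List (ℕ × ℕ)) →
    ∀ m ∈ Nat.divisors k, p ∣ m →
      (∀ q ∈ ([2, 3, 5, 7, 11, 23] : List ℕ), q ∣ m → q = p ∨ p = 5 ∧ q = 3) →
      (∃ r ∈ Nat.divisors (p - 1), m * r = k) → m = c := by
  intro p c k hpc hpk
  simp only [List.mem_cons, Prod.mk.injEq, List.not_mem_nil, or_false] at hpc hpk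
  obtain ⟨rfl, rfl, rfl⟩ | ⟨rfl, rfl, rfl⟩ | ⟨rfl, rfl, rfl⟩ :
      (p = 5 ∧ c = 15 ∧ k = 60) ∨ (p = 11 ∧ c = 11 ∧ k = 55) ∨ (p = 23 ∧ c = 23 ∧ k = 253) := by
    omega
  all_goals decide +kernel

set_option synthInstance.maxSize 4000 in
set_option synthInstance.maxHeartbeats 200000 in
/-- The only way to share out the surplus. -/
theorem fibre_arith : ∀ a < 26, ∀ b < 5, ∀ d < 3, ∀ e < 2, ∀ f < 2, ∀ g < 2, ∀ h < 2, ∀ i < 2,
    56672 * a + 318780 * b + 680064 * d + 850080 * e + 1457280 * f + 1275120 * g + 1360128 * h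
      + 887040 * i = 1457280 →
    f = 1 ∧ a + b + d + e + g + h + i = 0 := by decide +kernel

/-- The multiplicities, with variables. -/
theorem fibre_vals (x1 x2 x3 x4 x5 x6 x7 x8 x9 x10 x11 : ℕ) (h1' : x1 ≤ 1) (h2' : x2 ≤ 1)
    (h1 : 0 < x1) (h2 : 0 < x2) (h3 : 0 < x3) (h4 : 0 < x4) (h5 : 0 < x5) (h6 : 0 < x6)
    (h7 : 0 < x7) (h8 : 0 < x8) (h9 : 0 < x9) (h10 : 0 < x10) (h11 : 0 < x11)
    (hsum : x1 * 1 + (x2 * 3795 + (x3 * 56672 + (x4 * 318780 + (x5 * 680064 + (x6 * 850080 +
      (x7 * 1457280 + (x8 * 1275120 + (x9 * 1854720 + (x10 * 1360128 + (x11 * 887040 + 0)))))))))) =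
        10200960) :
    x1 = 1 ∧ x2 = 1 ∧ x3 = 1 ∧ x4 = 1 ∧ x5 = 1 ∧ x6 = 1 ∧ x7 = 2 ∧ x8 = 1 ∧ x9 = 1 ∧ x10 = 1 ∧
      x11 = 1 := by
  obtain rfl : x1 = 1 := Nat.le_antisymm h1' h1
  obtain rfl : x2 = 1 := Nat.le_antisymm h2' h2
  obtain ⟨a, rfl⟩ : ∃ a, x3 = a + 1 := ⟨x3 - 1, (Nat.sub_add_cancel h3).symm⟩
  obtain ⟨b, rfl⟩ : ∃ b, x4 = b + 1 := ⟨x4 - 1, (Nat.sub_add_cancel h4).symm⟩
  obtain ⟨d, rfl⟩ : ∃ d, x5 = d + 1 := ⟨x5 - 1, (Nat.sub_add_cancel h5).symm⟩
  obtain ⟨e, rfl⟩ : ∃ e, x6 = e + 1 := ⟨x6 - 1, (Nat.sub_add_cancel h6).symm⟩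
  obtain ⟨f, rfl⟩ : ∃ f, x7 = f + 1 := ⟨x7 - 1, (Nat.sub_add_cancel h7).symm⟩
  obtain ⟨g, rfl⟩ : ∃ g, x8 = g + 1 := ⟨x8 - 1, (Nat.sub_add_cancel h8).symm⟩
  obtain rfl : x9 = 1 := by
    by_contra hne
    have : 2 ≤ x9 := Nat.lt_of_le_of_ne h9 (Ne.symm hne)
    linarith
  obtain ⟨h, rfl⟩ : ∃ h, x10 = h + 1 := ⟨x10 - 1, (Nat.sub_add_cancel h10).symm⟩
  obtain ⟨i, rfl⟩ : ∃ i, x11 = i + 1 := ⟨x11 - 1, (Nat.sub_add_cancel h11).symm⟩
  have hs : 56672 * a + 318780 * b + 680064 * d + 850080 * e + 1457280 * f + 1275120 * g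
      + 1360128 * h + 887040 * i = 1457280 := by linarith
  have ba : a < 26 := by by_contra hh; linarith
  have bb : b < 5 := by by_contra hh; linarith
  have bd : d < 3 := by by_contra hh; linarith
  have be : e < 2 := by by_contra hh; linarith
  have bf : f < 2 := by by_contra hh; linarith
  have bg : g < 2 := by by_contra hh; linarith
  have bh : h < 2 := by by_contra hh; linarith
  have bi : i < 2 := by by_contra hh; linarith
  obtain ⟨rfl, a0⟩ := fibre_arith a ba b bb d bd e be f bf g bg h bh i bi hs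
  clear hs hsum
  omega

/-- A sum over eleven items. -/
theorem sum_eleven (f : ℕ → ℕ) (a1 a2 a3 a4 a5 a6 a7 a8 a9 a10 a11 : ℕ) :
    ([a1, a2, a3, a4, a5, a6, a7, a8, a9, a10, a11].map f).sum =
      f a1 + (f a2 + (f a3 + (f a4 + (f a5 + (f a6 + (f a7 + (f a8 + (f a9 + (f a10 + (f a11 + 0)))))))))) :=
  by simp

/-- The multiplicities from the total. -/
theorem fibre_solve (c : ℕ → ℕ) (h1' : c 1 ≤ 1) (h2' : c 3795 ≤ 1) (hpos : ∀ w ∈ vals, 0 < c w)
    (hsum : ∑ w ∈ vals, c w * w = 10200960) (v : ℕ) (hv : v ∈ vals) :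
    c v = if v = 1457280 then 2 else 1 := by
  simp only [vals, Finset.forall_mem_insert, Finset.mem_singleton, forall_eq] at hpos
  obtain ⟨h1, h2, h3, h4, h5, h6, h7, h8, h9, h10, h11⟩ := hpos
  rw [show vals = ([1, 3795, 56672, 318780, 680064, 850080, 1457280, 1275120, 1854720, 1360128,
      887040] : List ℕ).toFinset from by decide +kernel,
    List.sum_toFinset _ (by decide +kernel)] at hsum
  rw [sum_eleven] at hsum
  obtain ⟨e1, e2, e3, e4, e5, e6, e7, e8, e9, e10, e11⟩ := fibre_vals (c 1) (c 3795) (c 56672)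
    (c 318780) (c 680064) (c 850080) (c 1457280) (c 1275120) (c 1854720) (c 1360128) (c 887040)
    h1' h2' h1 h2 h3 h4 h5 h6 h7 h8 h9 h10 h11 hsum
  simp only [vals, Finset.mem_insert, Finset.mem_singleton] at hv
  rcases hv with rfl | rfl | rfl | rfl | rfl | rfl | rfl | rfl | rfl | rfl | rfl <;>
    norm_num <;> assumption

variable {G : Type*} [Group G] [Finite G] (hcard : Nat.card G = 10200960)
  (hnse : {c : ℕ | 0 < c ∧ ∃ n : ℕ, c = sn G n} = {c | c ∈ vals})
include hcard hnse

theorem sn_mem {n : ℕ} (hn : 0 < sn G n) : sn G n ∈ vals :=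
  (Set.ext_iff.1 hnse _).1 ⟨hn, n, rfl⟩

theorem s_two : sn G 2 = 3795 := by
  obtain ⟨h0, n, hn⟩ := (Set.ext_iff.1 hnse 3795).2 (by decide)
  rcases Nat.lt_or_ge 2 n with h | h
  · have := even_sn (H := G) h
    omega
  · interval_cases n
    · exfalso
      have : IsEmpty {g : G // orderOf g = 0} := ⟨fun g => (orderOf_pos g.1).ne' g.2⟩
      rw [sn, Nat.card_of_isEmpty] at hn
      omega
    · rw [M22Nse38.sn_one] at hn
      omega
    · exact hn.symm

/-- The orders that occur. -/
noncomputable def orders (G : Type*) [Group G] [Finite G] : Finset ℕ :=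
  ((Finset.range (Nat.card G + 1)).filter fun n => 0 < sn G n)

omit hcard hnse in
theorem mem_orders {n : ℕ} : n ∈ orders G ↔ 0 < sn G n := by
  simp only [orders, mem_filter, mem_range, and_iff_right_iff_imp]
  intro h
  obtain ⟨g, rfl⟩ := sn_pos.1 h
  have := Nat.le_of_dvd Nat.card_pos (orderOf_dvd_natCard g)
  omega

/-- The multiplicities: only 1457280 is taken twice. -/
theorem fibre {v : ℕ} (hv : v ∈ vals) :
    ((orders G).filter fun n => sn G n = v).card = if v = 1457280 then 2 else 1 := by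
  classical
  have := Fintype.ofFinite G
  set c : ℕ → ℕ := fun v => ((orders G).filter fun n => sn G n = v).card with hc
  have himg : (orders G).image (sn G) = vals := by
    ext w
    rw [mem_image]
    constructor
    · rintro ⟨n, hn, rfl⟩
      exact sn_mem hcard hnse (mem_orders.1 hn)
    · intro hw
      obtain ⟨h0, n, hn⟩ := (Set.ext_iff.1 hnse w).2 hw
      exact ⟨n, mem_orders.2 (hn ▸ h0), hn.symm⟩
  have hsum : ∑ w ∈ vals, c w * w = 10200960 := by
    have h1 : ∑ n ∈ orders G, sn G n = 10200960 := by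
      rw [← hcard, Nat.card_eq_fintype_card, ← card_univ,
        card_eq_sum_card_fiberwise (f := fun g : G => orderOf g) (t := orders G)
          (fun g _ => mem_orders.2 (sn_pos.2 ⟨g, rfl⟩))]
      exact sum_congr rfl fun k _ => by rw [sn, Nat.card_eq_fintype_card, Fintype.card_subtype]
    rw [← h1]
    conv_rhs => rw [show ∑ n ∈ orders G, sn G n = ∑ n ∈ orders G, id (sn G n) from rfl,
      Finset.sum_comp id (sn G), himg]
    exact sum_congr rfl fun w _ => rfl
  have hpos : ∀ w ∈ vals, 0 < c w := by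
    intro w hw
    rw [← himg, mem_image] at hw
    obtain ⟨n, hn, rfl⟩ := hw
    exact card_pos.2 ⟨n, mem_filter.2 ⟨hn, rfl⟩⟩
  have hone : ∀ w, w = 1 ∨ w = 3795 → c w ≤ 1 := by
    intro w hw
    refine card_le_one.2 fun a ha b hb => ?_
    obtain ⟨ha0, haw⟩ := mem_filter.1 ha
    obtain ⟨hb0, hbw⟩ := mem_filter.1 hb
    have key : ∀ n, sn G n = w → n = if w = 1 then 1 else 2 := by
      intro n hn
      have hlt : n ≤ 2 := by
        by_contra h
        have := even_sn (H := G) (n := n) (by omega)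
        omega
      interval_cases n
      · exfalso
        have : IsEmpty {g : G // orderOf g = 0} := ⟨fun g => (orderOf_pos g.1).ne' g.2⟩
        rw [sn, Nat.card_of_isEmpty] at hn
        omega
      · rw [M22Nse38.sn_one] at hn
        rw [if_pos hn.symm]
      · rw [s_two hcard hnse] at hn
        rw [if_neg (by omega)]
    rw [key a haw, key b hbw]
  exact fibre_solve c (hone 1 (Or.inl rfl)) (hone 3795 (Or.inr rfl)) hpos hsum v hv

theorem sn_inj {n m : ℕ} (hn : 0 < sn G n) (h : sn G n = sn G m) (hne : sn G n ≠ 1457280) :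
    n = m := by
  have hc := fibre hcard hnse (sn_mem hcard hnse hn)
  rw [if_neg hne] at hc
  exact card_le_one.1 hc.le n (mem_filter.2 ⟨mem_orders.2 hn, rfl⟩) m
    (mem_filter.2 ⟨mem_orders.2 (h ▸ hn), h.symm⟩)

theorem card_orders : (orders G).card = 12 := by
  rw [card_eq_sum_card_fiberwise (f := sn G) (t := vals)
    (fun n hn => sn_mem hcard hnse (mem_orders.1 hn)), sum_congr rfl fun v hv => fibre hcard hnse hv]
  decide

theorem sn_prime {p v : ℕ} (hp : p.Prime) (hd : p ∣ 10200960)
    (huniq : ∀ w ∈ vals, 2 ∣ w → p ∣ 1 + w → w = v) (h2 : p ≠ 2) : sn G p = v := by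
  have : Fact p.Prime := ⟨hp⟩
  obtain ⟨g, hg⟩ := exists_prime_orderOf_dvd_card' (G := G) p (hcard ▸ hd)
  refine huniq _ (sn_mem hcard hnse (sn_pos.2 ⟨g, hg⟩)) (even_sn ?_) ?_
  · have := hp.two_le
    omega
  · have h := frob (G := G) p
    rwa [hcard, Nat.gcd_eq_left hd, card_pow_eq_one hp.ne_zero, hp.sum_divisors, add_comm,
      M22Nse38.sn_one] at h

theorem s_three : sn G 3 = 56672 :=
  sn_prime hcard hnse Nat.prime_three (by norm_num) (by decide) (by norm_num)

theorem s_five : sn G 5 = 680064 :=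
  sn_prime hcard hnse (by norm_num) (by norm_num) (by decide) (by norm_num)

theorem s_seven : sn G 7 = 1457280 :=
  sn_prime hcard hnse (by norm_num) (by norm_num) (by decide) (by norm_num)

theorem s_eleven : sn G 11 = 1854720 :=
  sn_prime hcard hnse (by norm_num) (by norm_num) (by decide) (by norm_num)

theorem s_23 : sn G 23 = 887040 :=
  sn_prime hcard hnse (by norm_num) (by norm_num) (by decide) (by norm_num)

/-- The normalisers of the large Sylow subgroups. -/
theorem norm_card (p k : ℕ) (hpk : (p, k) ∈ ([(5, 60), (7, 42), (11, 55), (23, 253)] : List (ℕ × ℕ)))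
    (P : Subgroup G) (hP : Nat.card P = p) :
    Nat.card (Subgroup.normalizer (P : Set G)) = k := by
  simp only [List.mem_cons, Prod.mk.injEq, List.not_mem_nil, or_false] at hpk
  have hfin : p.Prime ∧ (10200960).factorization p = 1 ∧ sn G p * k = 10200960 * (p - 1) := by
    have hf : ∀ q : ℕ, q.Prime → q ∣ 10200960 → ¬ q ^ 2 ∣ 10200960 →
        (10200960).factorization q = 1 := fun q hq h1 h2 =>
      le_antisymm (by
          by_contra h
          exact h2 ((hq.pow_dvd_iff_le_factorization (by norm_num)).2 (by omega)))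
        ((hq.dvd_iff_one_le_factorization (by norm_num)).1 h1)
    rcases hpk with ⟨rfl, rfl⟩ | ⟨rfl, rfl⟩ | ⟨rfl, rfl⟩ | ⟨rfl, rfl⟩
    · exact ⟨by norm_num, hf 5 (by norm_num) (by norm_num) (by norm_num), by rw [s_five hcard hnse]⟩
    · exact ⟨by norm_num, hf 7 (by norm_num) (by norm_num) (by norm_num), by rw [s_seven hcard hnse]⟩
    · exact ⟨by norm_num, hf 11 (by norm_num) (by norm_num) (by norm_num),
        by rw [s_eleven hcard hnse]⟩
    · exact ⟨by norm_num, hf 23 (by norm_num) (by norm_num) (by norm_num), by rw [s_23 hcard hnse]⟩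
  obtain ⟨pp, hfac, hs⟩ := hfin
  have : Fact p.Prime := ⟨pp⟩
  let S : Sylow p G := Sylow.ofCard P (by rw [hP, hcard, hfac, pow_one])
  have hall : ∀ Q : Sylow p G, Nat.card (Q : Subgroup G) = p := fun Q => by
    rw [Q.card_eq_multiplicity, hcard, hfac, pow_one]
  have h1 : sn G p = Nat.card (Sylow p G) * (p - 1) := SmallGroups.card_orderOf_eq hall
  have h2 := (Subgroup.normalizer ((S : Subgroup G) : Set G)).card_mul_index
  rw [hcard, show (Subgroup.normalizer ((S : Subgroup G) : Set G)).index = Nat.card (Sylow p G) from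
    (S.card_eq_index_normalizer).symm] at h2
  have h3 : Nat.card (Subgroup.normalizer ((S : Subgroup G) : Set G)) = k := by
    rw [h1] at hs
    have hpos : 0 < Nat.card (Sylow p G) * (p - 1) :=
      Nat.mul_pos Nat.card_pos (Nat.sub_pos_of_lt pp.one_lt)
    refine Nat.eq_of_mul_eq_mul_right hpos ?_
    rw [← mul_assoc, h2, ← hs]
    ring
  exact h3

/-- The number of elements of order `q` commuting with one of order `p`. -/
theorem sn_mul_eq {p q : ℕ} (hp : p ∈ ([5, 7, 11, 23] : List ℕ)) (hq : q.Prime) (hpq : q ≠ p)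
    {x : G} (hx : orderOf x = p) :
    sn G (p * q) = sn G p * sn (Subgroup.centralizer ({x} : Set G)) q := by
  classical
  have := Fintype.ofFinite G
  have pp : p.Prime := by
    simp only [List.mem_cons, List.not_mem_nil, or_false] at hp
    rcases hp with rfl | rfl | rfl | rfl <;> norm_num
  have : Fact p.Prime := ⟨pp⟩
  have hP : ∀ P : Sylow p G, Nat.card ↥(P : Subgroup G) = p := fun P => by
    rw [P.card_eq_multiplicity, hcard]
    simp only [List.mem_cons, List.not_mem_nil, or_false] at hp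
    have hf : (10200960).factorization p = 1 := by
      refine le_antisymm ?_ ((pp.dvd_iff_one_le_factorization (by norm_num)).1 ?_)
      · by_contra h
        have := (pp.pow_dvd_iff_le_factorization (k := 2) (show 10200960 ≠ 0 by norm_num)).2
          (by omega)
        rcases hp with rfl | rfl | rfl | rfl <;> norm_num at this
      · rcases hp with rfl | rfl | rfl | rfl <;> norm_num
    rw [hf, pow_one]
  have key : ∀ y : {y : G // orderOf y = p},
      Nat.card {w : G // orderOf w = q ∧ Commute y.1 w} =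
        Nat.card {w : G // orderOf w = q ∧ Commute x w} := by
    rintro ⟨y, hy⟩
    obtain ⟨P, hyP⟩ := SmallGroups.exists_mem_sylow hy
    obtain ⟨Q, hxQ⟩ := SmallGroups.exists_mem_sylow hx
    obtain ⟨g, rfl⟩ := MulAction.exists_smul_eq G P Q
    have hy1 : y ≠ 1 := fun e => pp.ne_one (by rw [← hy, e, orderOf_one])
    have hx1 : x ≠ 1 := fun e => pp.ne_one (by rw [← hx, e, orderOf_one])
    have e1 := SmallGroups.zpowers_eq_of_card_prime (hP P) hyP hy1
    have e2 := SmallGroups.zpowers_eq_of_card_prime (hP _) hxQ hx1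
    have hyx : g * y * g⁻¹ ∈ Subgroup.zpowers x := by
      rw [e2, Sylow.coe_subgroup_smul, Subgroup.mem_pointwise_smul_iff_inv_smul_mem]
      simpa [MulAut.smul_def, mul_assoc] using hyP
    have hxy : g⁻¹ * x * g ∈ Subgroup.zpowers y := by
      rw [e1]
      have := hxQ
      rw [Sylow.coe_subgroup_smul, Subgroup.mem_pointwise_smul_iff_inv_smul_mem] at this
      simpa [MulAut.smul_def, mul_assoc] using this
    refine Nat.card_congr ((MulAut.conj g).toEquiv.subtypeEquiv fun w => and_congr ?_ ?_)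
    · rw [show orderOf ((MulAut.conj g).toEquiv w) = orderOf w from
        orderOf_injective (MulAut.conj g).toMonoidHom (MulAut.conj g).injective w]
    · show Commute y w ↔ Commute x (g * w * g⁻¹)
      obtain ⟨i, hi⟩ := hxy
      obtain ⟨j, hj⟩ := hyx
      simp only at hi hj
      constructor
      · intro h
        have h' : Commute (y ^ i) w := h.zpow_left i
        rw [hi] at h'
        have := h'.map (MulAut.conj g).toMonoidHom
        simpa [mul_assoc] using this
      · intro h
        have h' : Commute (x ^ j) (g * w * g⁻¹) := h.zpow_left j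
        rw [hj] at h'
        have := h'.map (MulAut.conj g⁻¹).toMonoidHom
        simpa [mul_assoc] using this
  rw [sn_mul ((Nat.coprime_primes pp hq).2 (Ne.symm hpq)), sum_congr rfl (fun y _ => key y),
    sum_const, card_univ, smul_eq_mul, sn, ← Nat.card_eq_fintype_card]
  congr 1
  refine Nat.card_congr
    { toFun := fun w => ⟨⟨w.1, Subgroup.mem_centralizer_singleton_iff.2 w.2.2.symm⟩, by
        rw [Subgroup.orderOf_mk]; exact w.2.1⟩
      invFun := fun w => ⟨w.1.1, (Subgroup.orderOf_coe w.1).trans w.2,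
        (Subgroup.mem_centralizer_singleton_iff.1 w.1.2).symm⟩
      left_inv := fun w => rfl
      right_inv := fun w => rfl }

/-- The centralisers. -/
theorem cent_card {p c : ℕ} (hpc : (p, c) ∈ ([(5, 15), (11, 11), (23, 23)] : List (ℕ × ℕ)))
    {x : G} (hx : orderOf x = p) : Nat.card (Subgroup.centralizer ({x} : Set G)) = c := by
  classical
  set C := Subgroup.centralizer ({x} : Set G) with hC
  simp only [List.mem_cons, Prod.mk.injEq, List.not_mem_nil, or_false] at hpc
  have hp : p ∈ ([5, 7, 11, 23] : List ℕ) := by rcases hpc with h | h | h <;> simp [h.1]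
  have hpk : ∃ k, (p, k) ∈ ([(5, 60), (7, 42), (11, 55), (23, 253)] : List (ℕ × ℕ)) := by
    rcases hpc with h | h | h <;> simp [h.1]
  obtain ⟨k, hk⟩ := hpk
  have hz : Nat.card (Subgroup.zpowers x) = p := by rw [Nat.card_zpowers, hx]
  have hN := norm_card hcard hnse p k hk _ hz
  set N := Subgroup.normalizer ((Subgroup.zpowers x : Subgroup G) : Set G) with hNdef
  have hCz : Subgroup.centralizer ((Subgroup.zpowers x : Subgroup G) : Set G) = C := by
    rw [hC, Subgroup.zpowers_eq_closure, Subgroup.centralizer_closure]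
  have hCN : C ≤ N := hCz ▸ Subgroup.centralizer_le_normalizer _
  have hdC : Nat.card C ∣ k := hN ▸ Subgroup.card_dvd_of_le hCN
  have hpC : p ∣ Nat.card C := by
    rw [← hz]
    exact Subgroup.card_dvd_of_le (Subgroup.zpowers_le.2 (Subgroup.mem_centralizer_singleton_iff.2 rfl))
  have hprime : p.Prime := by rcases hpc with h | h | h <;> rw [h.1] <;> norm_num
  have hrel : C.relIndex N ∣ p - 1 := by
    have : Fact p.Prime := ⟨hprime⟩
    rw [← hCz]
    exact SmallGroups.relIndex_centralizer_dvd_of_prime _ hz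
  have hmul : Nat.card C * C.relIndex N = k := by
    rw [← hN, Subgroup.relIndex, ← (C.subgroupOf N).card_mul_index,
      Nat.card_congr (Subgroup.subgroupOfEquivOfLe hCN).toEquiv]
  have hno : ∀ q, q.Prime → q ∣ Nat.card C → q = p ∨ p = 5 ∧ q = 3 := by
    intro q hq hqC
    by_contra hcon
    push Not at hcon
    have : Fact q.Prime := ⟨hq⟩
    obtain ⟨w, hw⟩ := exists_prime_orderOf_dvd_card' (G := C) q hqC
    have h0 : 0 < sn C q := sn_pos.2 ⟨w, hw⟩
    have hs := sn_mul_eq hcard hnse hp hq hcon.1 hx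
    rw [← hC] at hs
    have hle := pred_le_sn hq h0
    have hpos : 0 < sn G (p * q) := by
      rw [hs]
      refine Nat.mul_pos ?_ h0
      exact sn_pos.2 ⟨x, hx⟩
    have hmem := sn_mem hcard hnse hpos
    have hne : sn G p ≠ 1457280 → sn C q ≠ 1 := fun h7 h1 => by
      rw [h1, mul_one] at hs
      have := sn_inj hcard hnse hpos hs (hs ▸ h7)
      have := hq.two_le
      nlinarith [hprime.pos]
    have hpar : q ≠ 2 → 2 ∣ sn C q := fun h => even_sn (by have := hq.two_le; omega)
    have hodd : q = 2 → ¬ 2 ∣ sn C q := by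
      rintro rfl
      have h := frob (G := C) 2
      rw [card_pow_eq_one two_ne_zero, Nat.prime_two.sum_divisors, Nat.gcd_eq_left hqC,
        M22Nse38.sn_one] at h
      omega
    rcases hpc with ⟨rfl, rfl⟩ | ⟨rfl, rfl⟩ | ⟨rfl, rfl⟩
    · rw [hs, s_five hcard hnse] at hmem
      have hle2 : sn C q ≤ 2 := by
        have hmax : ∀ v ∈ vals, v ≤ 1854720 := by decide
        have := hmax _ hmem
        omega
      have h1 := hne (by rw [s_five hcard hnse]; norm_num)
      rcases eq_or_ne q 2 with h | h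
      · have := hodd h
        omega
      · have hq3 : q ≤ 3 := by omega
        have := hq.two_le
        exact hcon.2 rfl (by omega)
    · rw [hs, s_eleven hcard hnse] at hmem
      have hmax : ∀ v ∈ vals, v ≤ 1854720 := by decide
      have := hmax _ hmem
      have h1 := hne (by rw [s_eleven hcard hnse]; norm_num)
      omega
    · rw [hs, s_23 hcard hnse] at hmem
      have hmax : ∀ v ∈ vals, v ≤ 1854720 := by decide
      have := hmax _ hmem
      have h1 := hne (by rw [s_23 hcard hnse]; norm_num)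
      have hle2 : sn C q ≤ 2 := by omega
      rcases Nat.lt_or_ge (sn C q) 2 with h | h
      · omega
      · rw [show sn C q = 2 by omega] at hmem
        revert hmem
        decide
  refine cent_arith p c k (by rcases hpc with ⟨rfl, rfl⟩ | ⟨rfl, rfl⟩ | ⟨rfl, rfl⟩ <;> decide) hk
    (Nat.card C) (Nat.mem_divisors.2 ⟨hdC, by intro h0; rw [h0] at hN; exact Nat.card_pos.ne' hN⟩)
    hpC (fun q hq hqd => hno q ?_ hqd)
    ⟨C.relIndex N, Nat.mem_divisors.2 ⟨hrel, by have := hprime.two_le; omega⟩, hmul⟩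
  simp only [List.mem_cons, List.not_mem_nil, or_false] at hq
  rcases hq with rfl | rfl | rfl | rfl | rfl | rfl <;> norm_num

/-- The centraliser of an element of order seven. -/
theorem cent_seven_dvd {x : G} (hx : orderOf x = 7) :
    Nat.card (Subgroup.centralizer ({x} : Set G)) ∣ 14 := by
  classical
  set C := Subgroup.centralizer ({x} : Set G) with hC
  have hz : Nat.card (Subgroup.zpowers x) = 7 := by rw [Nat.card_zpowers, hx]
  have hN := norm_card hcard hnse 7 42 (by simp) _ hz
  have hdC : Nat.card C ∣ 42 := by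
    rw [← hN, hC]
    refine Subgroup.card_dvd_of_le ?_
    rw [show Subgroup.centralizer ({x} : Set G) =
      Subgroup.centralizer ((Subgroup.zpowers x : Subgroup G) : Set G) by
        rw [Subgroup.zpowers_eq_closure, Subgroup.centralizer_closure]]
    exact Subgroup.centralizer_le_normalizer _
  have h3 : ¬ 3 ∣ Nat.card C := by
    intro h
    have : Fact (Nat.Prime 3) := ⟨Nat.prime_three⟩
    obtain ⟨w, hw⟩ := exists_prime_orderOf_dvd_card' (G := C) 3 h
    have h0 : 0 < sn C 3 := sn_pos.2 ⟨w, hw⟩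
    have hs := sn_mul_eq hcard hnse (by simp) Nat.prime_three (by norm_num) hx
    rw [← hC] at hs
    have := pred_le_sn Nat.prime_three h0
    have hmem := sn_mem hcard hnse (n := 7 * 3) (by rw [hs, s_seven hcard hnse]; omega)
    have hmax : ∀ v ∈ vals, v ≤ 1854720 := by decide
    have := hmax _ hmem
    rw [hs, s_seven hcard hnse] at this
    omega
  have : Nat.card C ∈ Nat.divisors 42 := Nat.mem_divisors.2 ⟨hdC, by norm_num⟩
  revert h3
  generalize Nat.card C = m at this
  revert m
  decide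

end Cfsg.Agent.M23Nse26
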