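import Cfsg.Agent.M23Nse26.Arith

/-!
# A group of order 10200960 with the counts of M₂₃: the orders and simplicity
-/

set_option autoImplicit false

namespace Cfsg.Agent.M23Nse26

open Finset
open Cfsg.Agent.M22Nse38 (sn frob card_pow_eq_one sn_pos sn_pos_of_dvd sn_mul)

/-- The assignments of the four values. -/
def perms : List (List ℕ) := [
    [318780, 850080, 1275120, 1457280],
    [318780, 850080, 1457280, 1275120],
    [318780, 1275120, 850080, 1457280],
    [318780, 1275120, 1457280, 850080],
    [318780, 1457280, 850080, 1275120],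
    [318780, 1457280, 1275120, 850080],
    [850080, 318780, 1275120, 1457280],
    [850080, 318780, 1457280, 1275120],
    [850080, 1275120, 318780, 1457280],
    [850080, 1275120, 1457280, 318780],
    [850080, 1457280, 318780, 1275120],
    [850080, 1457280, 1275120, 318780],
    [1275120, 318780, 850080, 1457280],
    [1275120, 318780, 1457280, 850080],
    [1275120, 850080, 318780, 1457280],
    [1275120, 850080, 1457280, 318780],
    [1275120, 1457280, 318780, 850080],
    [1275120, 1457280, 850080, 318780],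
    [1457280, 318780, 850080, 1275120],
    [1457280, 318780, 1275120, 850080],
    [1457280, 850080, 318780, 1275120],
    [1457280, 850080, 1275120, 318780],
    [1457280, 1275120, 318780, 850080],
    [1457280, 1275120, 850080, 318780]]

/-- A finite function given by a list. -/
def look (l : List (ℕ × ℕ)) (d : ℕ) : ℕ := (l.lookup d).getD 0

/-- The values known so far. -/
def known : List (ℕ × ℕ) :=
  [(1, 1), (2, 3795), (3, 56672), (5, 680064), (7, 1457280), (11, 1854720), (15, 1360128),
    (23, 887040)]

theorem look_map (f : ℕ → ℕ) (l : List ℕ) (d : ℕ) :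
    look (l.map fun a => (a, f a)) d = if d ∈ l then f d else 0 := by
  induction l with
  | nil => simp [look]
  | cons a l ih =>
    simp only [look, List.map_cons, List.lookup_cons, List.mem_cons] at ih ⊢
    by_cases h : d = a
    · subst h
      simp
    · simp only [beq_eq_false_iff_ne.2 h, h, false_or]
      exact ih

theorem perms_mem : ∀ a ∈ ([318780, 850080, 1275120, 1457280] : List ℕ),
    ∀ b ∈ ([318780, 850080, 1275120, 1457280] : List ℕ),
    ∀ c ∈ ([318780, 850080, 1275120, 1457280] : List ℕ),
    ∀ d ∈ ([318780, 850080, 1275120, 1457280] : List ℕ),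
    [a, b, c, d].Nodup → [a, b, c, d] ∈ perms := by decide +kernel

set_option maxRecDepth 100000 in
/-- The four remaining orders. -/
theorem four_arith : ∀ L ∈ List.sublistsLen 4 [4, 6, 8, 9, 12, 14, 16, 18, 32], ∀ σ ∈ perms,
    (∀ n ∈ L, ∀ d ∈ Nat.divisors n, d ∈ L ∨ d ∈ [1, 2, 3, 5, 7, 11, 15, 23]) →
    (14 ∈ L → look (known ++ L.zip σ) 14 = 1457280) →
    (∀ m ∈ [9, 14, 896], m ∣ ∑ d ∈ Nat.divisors m, look (known ++ L.zip σ) d) →
    L = [4, 6, 8, 14] ∧ look (known ++ L.zip σ) 6 = 850080 ∧
      (look (known ++ L.zip σ) 4 = 318780 ∧ look (known ++ L.zip σ) 8 = 1275120 ∨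
        look (known ++ L.zip σ) 4 = 1275120 ∧ look (known ++ L.zip σ) 8 = 318780) := by
  decide +kernel

/-- Orders dividing 1152. -/
theorem small_arith : ∀ n ∈ Nat.divisors 1152,
    (Nat.divisors n ∪ {1, 2, 3, 5, 7, 11, 15, 23}).card ≤ 12 →
    n ∈ ([1, 2, 3, 4, 6, 8, 9, 12, 16, 18, 32] : List ℕ) := by decide +kernel

theorem zip_map_self (f : ℕ → ℕ) (l : List ℕ) : l.zip (l.map f) = l.map fun a => (a, f a) := by
  induction l with
  | nil => rfl
  | cons a l ih => simp [ih]

variable {G : Type*} [Group G] [Finite G] (hcard : Nat.card G = 10200960)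
  (hnse : {c : ℕ | 0 < c ∧ ∃ n : ℕ, c = sn G n} = {c | c ∈ vals})
include hcard hnse

theorem s_fifteen : sn G 15 = 1360128 := by
  have : Fact (Nat.Prime 5) := ⟨by norm_num⟩
  have : Fact (Nat.Prime 3) := ⟨Nat.prime_three⟩
  obtain ⟨x, hx⟩ := exists_prime_orderOf_dvd_card' (G := G) 5 (by rw [hcard]; norm_num)
  have hc := cent_card hcard hnse (p := 5) (c := 15) (by simp) hx
  obtain ⟨w, hw⟩ := exists_prime_orderOf_dvd_card' (G := Subgroup.centralizer ({x} : Set G)) 3
    (by rw [hc]; norm_num)
  have h0 : 0 < sn (Subgroup.centralizer ({x} : Set G)) 3 := sn_pos.2 ⟨w, hw⟩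
  have hle := pred_le_sn Nat.prime_three h0
  have hs := sn_mul_eq hcard hnse (p := 5) (q := 3) (by simp) Nat.prime_three (by norm_num) hx
  rw [s_five hcard hnse, show 5 * 3 = 15 by norm_num] at hs
  have hmem := sn_mem hcard hnse (n := 15) (by rw [hs]; omega)
  have hmax : ∀ v ∈ vals, v ≤ 1854720 := by decide
  have := hmax _ hmem
  omega

theorem order_big {g : G} {p : ℕ} (hp : p ∈ ([5, 7, 11, 23] : List ℕ)) (hd : p ∣ orderOf g) :
    orderOf g ∈ ([5, 7, 11, 14, 15, 23] : List ℕ) := by
  have pp : p.Prime := by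
    simp only [List.mem_cons, List.not_mem_nil, or_false] at hp
    rcases hp with rfl | rfl | rfl | rfl <;> norm_num
  have h0 : orderOf g ≠ 0 := (orderOf_pos g).ne'
  have hx : orderOf (g ^ (orderOf g / p)) = p := orderOf_pow_orderOf_div h0 hd
  have hg : orderOf g ∣ Nat.card (Subgroup.centralizer ({g ^ (orderOf g / p)} : Set G)) := by
    rw [← Nat.card_zpowers]
    exact Subgroup.card_dvd_of_le (Subgroup.zpowers_le.2
      (Subgroup.mem_centralizer_singleton_iff.2 ((Commute.refl g).pow_right _).eq))
  have key : ∀ m ∈ ([15, 14, 11, 23] : List ℕ), ∀ n ∈ Nat.divisors m,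
      (∃ q ∈ ([5, 7, 11, 23] : List ℕ), q ∣ n) → n ∈ ([5, 7, 11, 14, 15, 23] : List ℕ) := by
    decide +kernel
  simp only [List.mem_cons, List.not_mem_nil, or_false] at hp
  rcases hp with rfl | rfl | rfl | rfl
  · rw [cent_card hcard hnse (c := 15) (by simp) hx] at hg
    exact key 15 (by simp) _ (Nat.mem_divisors.2 ⟨hg, by norm_num⟩) ⟨5, by simp, hd⟩
  · exact key 14 (by simp) _ (Nat.mem_divisors.2
      ⟨hg.trans (cent_seven_dvd hcard hnse hx), by norm_num⟩) ⟨7, by simp, hd⟩
  · rw [cent_card hcard hnse (c := 11) (by simp) hx] at hg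
    exact key 11 (by simp) _ (Nat.mem_divisors.2 ⟨hg, by norm_num⟩) ⟨11, by simp, hd⟩
  · rw [cent_card hcard hnse (c := 23) (by simp) hx] at hg
    exact key 23 (by simp) _ (Nat.mem_divisors.2 ⟨hg, by norm_num⟩) ⟨23, by simp, hd⟩

theorem known_eq : known = ([1, 2, 3, 5, 7, 11, 15, 23] : List ℕ).map fun a => (a, sn G a) := by
  simp [known, M22Nse38.sn_one, s_two hcard hnse, s_three hcard hnse, s_five hcard hnse,
    s_seven hcard hnse, s_eleven hcard hnse, s_fifteen hcard hnse, s_23 hcard hnse]

theorem base_sub : ({1, 2, 3, 5, 7, 11, 15, 23} : Finset ℕ) ⊆ orders G := by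
  intro n hn
  simp only [mem_insert, mem_singleton] at hn
  rw [mem_orders]
  rcases hn with rfl | rfl | rfl | rfl | rfl | rfl | rfl | rfl
  · rw [M22Nse38.sn_one]; norm_num
  · rw [s_two hcard hnse]; norm_num
  · rw [s_three hcard hnse]; norm_num
  · rw [s_five hcard hnse]; norm_num
  · rw [s_seven hcard hnse]; norm_num
  · rw [s_eleven hcard hnse]; norm_num
  · rw [s_fifteen hcard hnse]; norm_num
  · rw [s_23 hcard hnse]; norm_num

theorem order_mem (g : G) :
    orderOf g ∈ ([1, 2, 3, 5, 7, 11, 15, 23] : List ℕ) ++ [4, 6, 8, 9, 12, 14, 16, 18, 32] := by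
  by_cases h : ∃ p ∈ ([5, 7, 11, 23] : List ℕ), p ∣ orderOf g
  · obtain ⟨p, hp, hd⟩ := h
    have := order_big hcard hnse hp hd
    simp only [List.mem_cons, List.mem_append, List.not_mem_nil, or_false] at this ⊢
    omega
  · push Not at h
    have hcop : Nat.Coprime (orderOf g) (5 * 7 * 11 * 23) := by
      refine Nat.Coprime.mul_right (Nat.Coprime.mul_right (Nat.Coprime.mul_right ?_ ?_) ?_) ?_
      all_goals exact ((Nat.Prime.coprime_iff_not_dvd (by norm_num)).2 (h _ (by simp))).symm
    have hd : orderOf g ∣ 1152 := hcop.dvd_of_dvd_mul_right (by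
      have := orderOf_dvd_natCard g
      rwa [hcard] at this)
    have hsub : Nat.divisors (orderOf g) ∪ {1, 2, 3, 5, 7, 11, 15, 23} ⊆ orders G := by
      refine Finset.union_subset (fun d hd' => ?_) (base_sub hcard hnse)
      exact mem_orders.2 (sn_pos_of_dvd (Nat.mem_divisors.1 hd').1 (sn_pos.2 ⟨g, rfl⟩))
    have := small_arith _ (Nat.mem_divisors.2 ⟨hd, by norm_num⟩)
      ((card_le_card hsub).trans (card_orders hcard hnse).le)
    simp only [List.mem_cons, List.mem_append, List.not_mem_nil, or_false] at this ⊢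
    omega

/-- The orders, and the counts of those composed of two and three. -/
theorem four_orders :
    (∀ g : G, orderOf g ∈ ([1, 2, 3, 4, 5, 6, 7, 8, 11, 14, 15, 23] : List ℕ)) ∧
      sn G 14 = 1457280 ∧ sn G 6 = 850080 ∧
      (sn G 4 = 318780 ∧ sn G 8 = 1275120 ∨ sn G 4 = 1275120 ∧ sn G 8 = 318780) := by
  classical
  set L := ([4, 6, 8, 9, 12, 14, 16, 18, 32] : List ℕ).filter (fun n => decide (n ∈ orders G)) with hL
  have memL : ∀ {n}, n ∈ L ↔ n ∈ ([4, 6, 8, 9, 12, 14, 16, 18, 32] : List ℕ) ∧ n ∈ orders G := by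
    intro n
    simp [hL]
  have hLnd : L.Nodup := List.Nodup.filter _ (by decide)
  have hsplit : orders G = {1, 2, 3, 5, 7, 11, 15, 23} ∪ L.toFinset := by
    refine Finset.Subset.antisymm (fun n hn => ?_)
      (Finset.union_subset (base_sub hcard hnse) fun n hn => (memL.1 (List.mem_toFinset.1 hn)).2)
    obtain ⟨g, hg⟩ := sn_pos.1 (mem_orders.1 hn)
    subst hg
    rcases List.mem_append.1 (order_mem hcard hnse g) with h | h
    · refine mem_union_left _ ?_
      simpa using h
    · exact mem_union_right _ (List.mem_toFinset.2 (memL.2 ⟨h, hn⟩))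
  have hdisj : Disjoint ({1, 2, 3, 5, 7, 11, 15, 23} : Finset ℕ) L.toFinset := by
    rw [Finset.disjoint_left]
    intro n hn hn'
    have := (memL.1 (List.mem_toFinset.1 hn')).1
    simp only [mem_insert, mem_singleton, List.mem_cons, List.not_mem_nil, or_false] at hn this
    omega
  have hlen : L.length = 4 := by
    have := card_orders hcard hnse
    rw [hsplit, card_union_of_disjoint hdisj, List.toFinset_card_of_nodup hLnd,
      show ({1, 2, 3, 5, 7, 11, 15, 23} : Finset ℕ).card = 8 by rfl] at this
    omega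
  have hsub : L ∈ List.sublistsLen 4 [4, 6, 8, 9, 12, 14, 16, 18, 32] :=
    List.mem_sublistsLen.2 ⟨List.filter_sublist, hlen⟩
  have hval : ∀ n ∈ L, sn G n ∈ ([318780, 850080, 1275120, 1457280] : List ℕ) := by
    intro n hn
    obtain ⟨hnc, hn0⟩ := memL.1 hn
    have hv := sn_mem hcard hnse (mem_orders.1 hn0)
    have hne : ∀ b v, sn G b = v → v ≠ 1457280 → b ∈ ({1, 2, 3, 5, 7, 11, 15, 23} : Finset ℕ) →
        sn G n ≠ v := by
      intro b v hb hv1 hbm he
      have := sn_inj hcard hnse (mem_orders.1 hn0) (he.trans hb.symm) (he ▸ hv1)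
      subst this
      exact Finset.disjoint_left.1 hdisj hbm (List.mem_toFinset.2 hn)
    have := hne 1 _ M22Nse38.sn_one (by norm_num) (by decide)
    have := hne 2 _ (s_two hcard hnse) (by norm_num) (by decide)
    have := hne 3 _ (s_three hcard hnse) (by norm_num) (by decide)
    have := hne 5 _ (s_five hcard hnse) (by norm_num) (by decide)
    have := hne 11 _ (s_eleven hcard hnse) (by norm_num) (by decide)
    have := hne 15 _ (s_fifteen hcard hnse) (by norm_num) (by decide)
    have := hne 23 _ (s_23 hcard hnse) (by norm_num) (by decide)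
    simp only [vals, mem_insert, mem_singleton] at hv
    simp only [List.mem_cons, List.not_mem_nil, or_false]
    omega
  have hnd : (L.map (sn G)).Nodup := by
    refine List.Nodup.map_on (fun a ha b hb he => ?_) hLnd
    obtain ⟨-, ha0⟩ := memL.1 ha
    obtain ⟨-, hb0⟩ := memL.1 hb
    by_cases h7 : sn G a = 1457280
    · by_contra hab
      have h3 : ({7, a, b} : Finset ℕ) ⊆ (orders G).filter fun n => sn G n = 1457280 := by
        intro n hn
        simp only [mem_insert, mem_singleton] at hn
        rw [mem_filter]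
        rcases hn with rfl | rfl | rfl
        · exact ⟨base_sub hcard hnse (by decide), s_seven hcard hnse⟩
        · exact ⟨ha0, h7⟩
        · exact ⟨hb0, he ▸ h7⟩
      have h7a : ∀ n ∈ L, n ≠ 7 := by
        intro n hn e
        subst e
        exact Finset.disjoint_left.1 hdisj (by decide) (List.mem_toFinset.2 hn)
      have hc := card_le_card h3
      rw [fibre hcard hnse (by decide), if_pos rfl,
        card_eq_three.2 ⟨7, a, b, (h7a a ha).symm, (h7a b hb).symm, hab, rfl⟩] at hc
      omega
    · exact sn_inj hcard hnse (mem_orders.1 ha0) he h7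
  have hσ : L.map (sn G) ∈ perms := by
    have hl : (L.map (sn G)).length = 4 := by rw [List.length_map, hlen]
    have hm : ∀ v ∈ L.map (sn G), v ∈ ([318780, 850080, 1275120, 1457280] : List ℕ) := by
      intro v hv
      obtain ⟨n, hn, rfl⟩ := List.mem_map.1 hv
      exact hval n hn
    match L.map (sn G), hl, hm, hnd with
    | [a, b, c, d], _, hm, hnd =>
      exact perms_mem a (hm a (by simp)) b (hm b (by simp)) c (hm c (by simp)) d (hm d (by simp)) hnd
  have hlook : ∀ d, look (known ++ L.zip (L.map (sn G))) d = sn G d := by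
    intro d
    rw [zip_map_self, known_eq hcard hnse, ← List.map_append, look_map]
    split_ifs with h
    · rfl
    · by_contra hne
      apply h
      have hd : d ∈ orders G := mem_orders.2 (Nat.pos_of_ne_zero (Ne.symm hne))
      rw [hsplit, mem_union, List.mem_toFinset] at hd
      rw [List.mem_append]
      refine hd.imp (fun hd => ?_) id
      simpa using hd
  obtain ⟨hLeq, h6, h48⟩ := four_arith L hsub _ hσ
    (fun n hn d hd => by
      have hd0 : d ∈ orders G := mem_orders.2
        (sn_pos_of_dvd (Nat.mem_divisors.1 hd).1 (mem_orders.1 (memL.1 hn).2))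
      rw [hsplit, mem_union, List.mem_toFinset] at hd0
      refine hd0.symm.imp id (fun hd => ?_)
      simpa using hd)
    (fun h14 => by
      rw [hlook]
      have h0 := mem_orders.1 (memL.1 h14).2
      have : Fact (Nat.Prime 7) := ⟨by norm_num⟩
      obtain ⟨x, hx⟩ := exists_prime_orderOf_dvd_card' (G := G) 7 (by rw [hcard]; norm_num)
      have hs := sn_mul_eq hcard hnse (p := 7) (q := 2) (by simp) Nat.prime_two (by norm_num) hx
      rw [s_seven hcard hnse, show 7 * 2 = 14 by norm_num] at hs
      have hmem := sn_mem hcard hnse h0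
      have hmax : ∀ v ∈ vals, v ≤ 1854720 := by decide
      have := hmax _ hmem
      omega)
    (fun m hm => by
      simp only [hlook]
      have hm' : m ≠ 0 ∧ Nat.gcd m 10200960 = m := by
        simp only [List.mem_cons, List.not_mem_nil, or_false] at hm
        rcases hm with rfl | rfl | rfl <;> norm_num
      have h := frob (G := G) m
      rwa [hcard, hm'.2, card_pow_eq_one hm'.1] at h)
  rw [hlook] at h6
  rw [hlook, hlook] at h48
  refine ⟨fun g => ?_, ?_, h6, h48⟩
  · have hg : orderOf g ∈ orders G := mem_orders.2 (sn_pos.2 ⟨g, rfl⟩)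
    rw [hsplit, mem_union, List.mem_toFinset, hLeq] at hg
    simp only [mem_insert, mem_singleton, List.mem_cons, List.not_mem_nil, or_false] at hg ⊢
    omega
  · have h14 : 14 ∈ L := by rw [hLeq]; simp
    have h0 := mem_orders.1 (memL.1 h14).2
    have : Fact (Nat.Prime 7) := ⟨by norm_num⟩
    obtain ⟨x, hx⟩ := exists_prime_orderOf_dvd_card' (G := G) 7 (by rw [hcard]; norm_num)
    have hs := sn_mul_eq hcard hnse (p := 7) (q := 2) (by simp) Nat.prime_two (by norm_num) hx
    rw [s_seven hcard hnse, show 7 * 2 = 14 by norm_num] at hs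
    have hmem := sn_mem hcard hnse h0
    have hmax : ∀ v ∈ vals, v ≤ 1854720 := by decide
    have := hmax _ hmem
    omega

theorem cent_seven {x : G} (hx : orderOf x = 7) :
    Nat.card (Subgroup.centralizer ({x} : Set G)) = 14 := by
  have hs := sn_mul_eq hcard hnse (p := 7) (q := 2) (by simp) Nat.prime_two (by norm_num) hx
  rw [s_seven hcard hnse, show 7 * 2 = 14 by norm_num, (four_orders hcard hnse).2.1] at hs
  obtain ⟨w, hw⟩ := sn_pos.1 (show 0 < sn (Subgroup.centralizer ({x} : Set G)) 2 by omega)
  refine Nat.dvd_antisymm (cent_seven_dvd hcard hnse hx)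
    (Nat.Coprime.mul_dvd_of_dvd_of_dvd (by norm_num : Nat.Coprime 7 2) ?_ ?_)
  · rw [← hx, ← Nat.card_zpowers]
    exact Subgroup.card_dvd_of_le (Subgroup.zpowers_le.2
      (Subgroup.mem_centralizer_singleton_iff.2 rfl))
  · rw [← hw]
    exact orderOf_dvd_natCard w

omit hnse in
/-- A normal subgroup contains the elements of order prime to its index. -/
theorem sum_le_card (N : Subgroup G) [N.Normal] (S : Finset ℕ)
    (hS : ∀ n ∈ S, Nat.Coprime n N.index) : ∑ n ∈ S, sn G n ≤ Nat.card N := by
  classical
  have := Fintype.ofFinite G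
  have hmem : ∀ g : G, orderOf g ∈ S → g ∈ N := by
    intro g hg
    rw [← QuotientGroup.eq_one_iff g, ← orderOf_eq_one_iff]
    refine Nat.eq_one_of_dvd_coprimes (hS _ hg) (orderOf_map_dvd (QuotientGroup.mk' N) g) ?_
    rw [Subgroup.index_eq_card]
    exact orderOf_dvd_natCard _
  calc ∑ n ∈ S, sn G n = Nat.card (Σ n : S, {g : G // orderOf g = n.1}) := by
        rw [Nat.card_sigma, ← Finset.sum_coe_sort S (fun n => sn G n)]
        rfl
    _ ≤ Nat.card N := by
      refine Nat.card_le_card_of_injective
        (fun z => ⟨z.2.1, hmem _ (z.2.2.symm ▸ z.1.2)⟩) ?_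
      rintro ⟨⟨n, hn⟩, ⟨g, hg⟩⟩ ⟨⟨m, hm⟩, ⟨g', hg'⟩⟩ e
      have e' : g = g' := congrArg Subtype.val e
      subst e'
      have : n = m := hg.symm.trans hg'
      subst this
      rfl

/-- A normal subgroup of order prime to `p` has order one mod `p`, for `p = 11, 23`. -/
theorem card_modEq (N : Subgroup G) [N.Normal] {p : ℕ} (hp : p = 11 ∨ p = 23)
    (hN : ¬ p ∣ Nat.card N) : Nat.card N % p = 1 := by
  have pp : p.Prime := by rcases hp with rfl | rfl <;> norm_num
  have : Fact p.Prime := ⟨pp⟩
  obtain ⟨x, hx⟩ := exists_prime_orderOf_dvd_card' (G := G) p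
    (by rw [hcard]; rcases hp with rfl | rfl <;> norm_num)
  have hC : Nat.card (Subgroup.centralizer ({x} : Set G)) = p := by
    rcases hp with rfl | rfl
    · exact cent_card hcard hnse (c := 11) (by simp) hx
    · exact cent_card hcard hnse (c := 23) (by simp) hx
  letI : MulAction (Subgroup.zpowers x) N :=
    { smul := fun g n => ⟨(g : G) * n.1 * (g : G)⁻¹, Subgroup.Normal.conj_mem inferInstance n.1 n.2 _⟩
      one_smul := fun n => Subtype.ext (by
        show (1 : G) * n.1 * (1 : G)⁻¹ = n.1
        simp)
      mul_smul := fun a b n => Subtype.ext (by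
        show (a : G) * (b : G) * n.1 * ((a : G) * (b : G))⁻¹ =
          (a : G) * ((b : G) * n.1 * (b : G)⁻¹) * (a : G)⁻¹
        group) }
  have hpg : IsPGroup p (Subgroup.zpowers x) :=
    IsPGroup.of_card (n := 1) (by rw [Nat.card_zpowers, hx, pow_one])
  have h := hpg.card_modEq_card_fixedPoints N
  have hfix : MulAction.fixedPoints (Subgroup.zpowers x) N = {1} := by
    ext n
    constructor
    · intro hn
      have h1 : x * n.1 * x⁻¹ = n.1 :=
        congrArg Subtype.val (hn ⟨x, Subgroup.mem_zpowers x⟩)
      have hmem : n.1 ∈ N ⊓ Subgroup.centralizer ({x} : Set G) := by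
        refine ⟨n.2, Subgroup.mem_centralizer_singleton_iff.2 ?_⟩
        calc n.1 * x = x * n.1 * x⁻¹ * x := by rw [h1]
          _ = x * n.1 := by group
      have hbot : N ⊓ Subgroup.centralizer ({x} : Set G) = ⊥ := by
        rw [← Subgroup.card_eq_one]
        have h2 := Subgroup.card_dvd_of_le
          (inf_le_right : N ⊓ Subgroup.centralizer ({x} : Set G) ≤ Subgroup.centralizer ({x} : Set G))
        rw [hC] at h2
        rcases (Nat.dvd_prime pp).1 h2 with h3 | h3
        · exact h3
        · exact absurd (h3 ▸ Subgroup.card_dvd_of_le inf_le_left) hN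
      rw [hbot, Subgroup.mem_bot] at hmem
      exact Subtype.ext hmem
    · rintro rfl g
      exact Subtype.ext (show (g : G) * ((1 : N) : G) * (g : G)⁻¹ = ((1 : N) : G) by simp)
  rw [hfix, Nat.card_coe_set_eq, Set.ncard_singleton, Nat.ModEq, Nat.one_mod_eq_one.2 pp.ne_one] at h
  exact h

theorem simple : IsSimpleGroup G := by
  have hnt : Nontrivial G := Finite.one_lt_card_iff_nontrivial.1 (by omega)
  refine ⟨fun N hN => ?_⟩
  have hmul := N.card_mul_index
  rw [hcard] at hmul
  have hsum : ∀ S : Finset ℕ, (∀ n ∈ S, Nat.Coprime n N.index) → ∑ n ∈ S, sn G n ≤ Nat.card N :=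
    fun S hS => sum_le_card hcard N S hS
  by_cases h23 : 23 ∣ Nat.card N
  · refine Or.inr (Subgroup.index_eq_one.1 ?_)
    have hidx : N.index ∣ 443520 := by
      obtain ⟨k, hk⟩ := h23
      exact ⟨k, by rw [hk] at hmul; linarith⟩
    have hp : ∀ {p : ℕ}, p.Prime → ¬ p ∣ N.index → Nat.Coprime p N.index :=
      fun hp h => hp.coprime_iff_not_dvd.2 h
    have h23' : Nat.Coprime 23 N.index := hp (by norm_num) fun h => by
      have := h.trans hidx
      norm_num at this
    have hb := hsum {23} (fun n hn => by rw [mem_singleton.1 hn]; exact h23')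
    rw [sum_singleton, s_23 hcard hnse] at hb
    have hsmall : N.index ≤ 11 := by
      by_contra hlt
      push Not at hlt
      have := Nat.mul_le_mul hb hlt
      rw [hmul] at this
      omega
    have h11i : N.index ≠ 11 := by
      intro h
      rw [h] at hmul
      have := card_modEq hcard hnse N (Or.inl rfl) (by omega)
      omega
    have hpos : N.index ≠ 0 := Subgroup.index_ne_zero_of_finite
    have hval : N.index ∈ ([1, 2, 3, 4, 5, 6, 7, 8, 9, 10] : List ℕ) := by
      simp only [List.mem_cons, List.not_mem_nil, or_false]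
      omega
    simp only [List.mem_cons, List.not_mem_nil, or_false] at hval
    rcases hval with h | h | h | h | h | h | h | h | h | h <;> rw [h] at hmul hsum
    · exact h
    all_goals exfalso
    · have := hsum {1, 3, 5, 7, 11, 15, 23} (by decide)
      simp [M22Nse38.sn_one, s_three hcard hnse, s_five hcard hnse, s_seven hcard hnse,
        s_eleven hcard hnse, s_fifteen hcard hnse, s_23 hcard hnse] at this
      omega
    all_goals
      first
      | (have := hsum {1, 5, 7, 11, 23} (by decide)
         simp [M22Nse38.sn_one, s_five hcard hnse, s_seven hcard hnse, s_eleven hcard hnse,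
          s_23 hcard hnse] at this
         omega)
      | (have := hsum {1, 7, 11, 23} (by decide)
         simp [M22Nse38.sn_one, s_seven hcard hnse, s_eleven hcard hnse, s_23 hcard hnse] at this
         omega)
      | (have := hsum {1, 5, 11, 23} (by decide)
         simp [M22Nse38.sn_one, s_five hcard hnse, s_eleven hcard hnse, s_23 hcard hnse] at this
         omega)
  · refine Or.inl (Subgroup.card_eq_one.1 ?_)
    have h1 := card_modEq hcard hnse N (Or.inr rfl) h23
    have hd : Nat.card N ∣ 443520 := by
      refine ((Nat.Prime.coprime_iff_not_dvd (by norm_num)).2 h23).symm.dvd_of_dvd_mul_left (m := 23) ?_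
      exact ⟨N.index, by rw [hmul]⟩
    have h11 : ¬ 11 ∣ Nat.card N := by
      intro h
      have hc : Nat.Coprime 11 N.index := by
        refine (Nat.Prime.coprime_iff_not_dvd (by norm_num)).2 fun h' => ?_
        have := Nat.mul_dvd_mul h h'
        rw [hmul] at this
        norm_num at this
      have := hsum {11} (fun n hn => by rw [mem_singleton.1 hn]; exact hc)
      rw [sum_singleton, s_eleven hcard hnse] at this
      have := Nat.le_of_dvd (by norm_num) hd
      omega
    have h2 := card_modEq hcard hnse N (Or.inl rfl) h11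
    have hd' : Nat.card N ∣ 40320 := by
      refine ((Nat.Prime.coprime_iff_not_dvd (by norm_num)).2 h11).symm.dvd_of_dvd_mul_left (m := 11) ?_
      exact hd
    have key : ∀ k < 160, (253 * k + 1) ∣ 40320 → k = 0 := by decide +kernel
    have hk := key (Nat.card N / 253) (by have := Nat.le_of_dvd (by norm_num) hd'; omega)
      (by rwa [show 253 * (Nat.card N / 253) + 1 = Nat.card N by omega])
    omega

end Cfsg.Agent.M23Nse26
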